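import Cfsg.Agent.Lib.Spor.HSType.Cert.H203.Data

/-!
Checks of a part of the derivation.
-/

set_option autoImplicit false

namespace CfsgLib.Spor.HSType.Cert.H203

open CfsgLib.Spor.TC

def scodes0 : List ℕ := [
  0x1,
  0x1,
  0x10000100003,
  0x10000200003,
  0x1,
  0x2000040000a00004000010000100002,
  0x1000080000200003000010000500002,
  0x1,
  0x1,
  0x1,
  0x1,
  0x100005000020001000012000140001600006000010000600002,
  0x1,
  0x1,
  0x1,
  0x1,
  0x1,
  0x1800001000050000500002000100001a0001c0001e000200002200008000010000700002,
  0x1,
  0x1,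
  0x27000080002800002000010000a00002,
  0x1,
  0x1,
  0x1,
  0x2400018000010000500005000280002c0002e0003000005000010000c00002,
  0x2800002000010000d00002,
  0x1,
  0x1,
  0xc000360003800003000010001000002,
  0x3600002000010001100002,
  0x1,
  0x250002400018000100001a0003e00004000020000200002,
  0x190000f0000d0001000003000020000400002,
  0x1,
  0x35000020004400002000020001000002,
  0x1,
  0x340000b0000900003000440004800003000020001200002,
  0x1,
  0x1,
  0x1,
  0x1,
  0x1,
  0x1,
  0x1,
  0x18000440004c0004e000500005200054000560005800009000020001400002,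
  0x3900002000040001100002,
  0x1,
  0x410005e00002000050000300002,
  0x1,
  0x3d000190005e0006200003000050000400002,
  0x1,
  0x1,
  0x15000660006800003000070000b00002,
  0x1,
  0x1,
  0x150006c0006e00003000070001000002,
  0x1,
  0x5a0007200002000080000300002,
  0x5d0000f000170007200002000080000400002,
  0x580005a0006900002000080000a00002,
  0x1,
  0x1,
  0x1,
  0x1,
  0x1,
  0x1,
  0x1,
  0x1,
  0x1,
  0x56000770006a0006f0007a0007c0007e00080000820008400086000880008a0000b000080001500002,
  0x3d000410001a0005f0007500005000090000400002,
  0x3f0008d0007600004,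
  0x730008e0006300004,
  0x260008f000620009200004,
  0x32000930005700004,
  0x30000950005500004,
  0x2e000970008b00004,
  0x2c000990008900004,
  0x4a0009b0008700004,
  0x860009e00004,
  0x1,
  0xa100029000a2000020000f0000f00002,
  0x4a000a2000020000f0001100002,
  0xa5000a3000a600004,
  0x3c0000600002000170006f0007a0007c0007e0008000082000840009f000a7000470000f000130001500002,
  0x45000aa0003800004,
  0x3b000ab0005c00004,
  0xb000ae00004]

set_option maxRecDepth 100000 in
theorem steps0 : cert.SStepsOK 0 88 :=
  Cert.SStepsOK.of_check _ (codes := scodes0) (by decide +kernel)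

end CfsgLib.Spor.HSType.Cert.H203
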